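import Cfsg.Agent.H419.EP.Iface

/-!
# Extremely primitive groups: the inversion criterion (helper463, S3499)

`kill_inv` : `x` inverted by `w ∈ A`, `x² ∉ A`, and every `a ∈ A` with `x⁻¹ a x ∈ A` commutes with `x`: contradiction.
(Then `A ∩ A^x = C_A(x)` is normalised by `w`.)  `kill_inv_model` : the same in the matrix group.
-/

set_option autoImplicit false

namespace Cfsg.Agent.H463.EP

open Subgroup Cfsg.Agent.H284 Cfsg.Agent.H419.EP
open scoped MatrixGroups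

/-- the two-point stabiliser is invariant under the stabiliser in `Γ` -/
theorem M0_inv {Q : Type*} [Group Q] {A : Subgroup Q} {Γ : Subgroup (MulAut Q)} (h : EPT A Γ) {x : Q} :
    ∀ σ ∈ Γ, x⁻¹ * σ x ∈ A → ∀ k ∈ A ⊓ cj x A, σ k ∈ A ⊓ cj x A := by
  intro σ hσ hx k hk
  obtain ⟨h1, h2⟩ := mem_inf.1 hk
  rw [mem_cj] at h2
  refine mem_inf.2 ⟨(h.inv σ hσ k).2 h1, ?_⟩
  rw [mem_cj]
  have e : x⁻¹ * σ k * x = (x⁻¹ * σ x) * σ (x⁻¹ * k * x) * (x⁻¹ * σ x)⁻¹ := by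
    rw [map_mul, map_mul, map_inv]
    group
  rw [e]
  exact A.mul_mem (A.mul_mem hx ((h.inv σ hσ _).2 h2)) (A.inv_mem hx)

/-- every element of `A` normalising `A ∩ A^x` lies in `A^x` -/
theorem kill_norm {Q : Type*} [Group Q] {A : Subgroup Q} {Γ : Subgroup (MulAut Q)} (h : EPT A Γ) {x w : Q}
    (hx : x ∉ A) (hw : w ∈ A) (hn : ∀ k ∈ A ⊓ cj x A, w * k * w⁻¹ ∈ A ⊓ cj x A) : w ∈ cj x A := by
  have h1 := h.norm x hx (A ⊓ cj x A) le_rfl (M0_inv h) (h.M0 x hx) (MulAut.conj w) ((h.conj w).2 hw) hn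
  rw [MulAut.conj_apply] at h1
  rw [mem_cj]
  have e : x⁻¹ * w * x = (x⁻¹ * (w * x * w⁻¹)) * w := by group
  rw [e]
  exact A.mul_mem h1 hw

/-- **The inversion criterion.** -/
theorem kill_inv {Q : Type*} [Group Q] {A : Subgroup Q} {Γ : Subgroup (MulAut Q)} (h : EPT A Γ) {x w : Q}
    (hw : w ∈ A) (hwx : w * x * w⁻¹ = x⁻¹) (hx2 : x * x ∉ A) (hc : ∀ a ∈ A, x⁻¹ * a * x ∈ A → a * x = x * a) :
    False := by
  have hx : x ∉ A := fun hx => hx2 (A.mul_mem hx hx)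
  have h1 := kill_norm h hx hw (by
    intro k hk
    obtain ⟨h1, h2⟩ := mem_inf.1 hk
    rw [mem_cj] at h2
    have h3 := hc k h1 h2
    have h4 : (w * k * w⁻¹) * x⁻¹ = x⁻¹ * (w * k * w⁻¹) := by
      rw [← hwx]
      calc (w * k * w⁻¹) * (w * x * w⁻¹) = w * (k * x) * w⁻¹ := by group
        _ = w * (x * k) * w⁻¹ := by rw [h3]
        _ = _ := by group
    have h5 : w * k * w⁻¹ ∈ A := A.mul_mem (A.mul_mem hw h1) (A.inv_mem hw)
    refine mem_inf.2 ⟨h5, ?_⟩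
    rw [mem_cj]
    have h6 : x⁻¹ * (w * k * w⁻¹) * x = w * k * w⁻¹ := by
      rw [← h4]
      group
    rw [h6]
    exact h5)
  rw [mem_cj] at h1
  apply hx2
  have h2 : x * x = (x⁻¹ * w * x * w⁻¹)⁻¹ := by
    have e : x⁻¹ * w * x * w⁻¹ = x⁻¹ * (w * x * w⁻¹) := by group
    rw [e, hwx, mul_inv_rev, inv_inv]
  rw [h2]
  exact A.inv_mem (A.mul_mem h1 (A.inv_mem hw))

/-- the inversion criterion in the matrix group -/
theorem kill_inv_model {Q : Type*} [Group Q] {A : Subgroup Q} {Γ : Subgroup (MulAut Q)} (h : EPT A Γ)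
    {ι : Type} [Fintype ι] [DecidableEq ι] {F : Type*} [Field F] {S : Subgroup (GL ι F)} (m : Model Q S)
    {x w : GL ι F} (hxS : x ∈ S) (hw : w ∈ m.hat A) (hwx : w * x * w⁻¹ = x⁻¹) (hx2 : x * x ∉ m.hat A)
    (hc : ∀ a ∈ m.hat A, x⁻¹ * a * x ∈ m.hat A → a * x = x * a) : False := by
  obtain ⟨hwS, hwA⟩ := m.mem_hat.1 hw
  refine kill_inv h (x := m.π ⟨x, hxS⟩) (w := m.π ⟨w, hwS⟩) hwA ?_ ?_ ?_
  · rw [← map_inv, ← map_mul, ← map_mul, ← map_inv]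
    congr 1
    exact Subtype.ext hwx
  · intro h1
    apply hx2
    rw [← map_mul] at h1
    exact m.mem_hat.2 ⟨S.mul_mem hxS hxS, h1⟩
  · intro a ha h1
    obtain ⟨s, rfl⟩ := m.surj a
    rw [← map_inv, ← map_mul, ← map_mul] at h1
    have h2 : (s : GL ι F) ∈ m.hat A := m.mem_hat.2 ⟨s.2, ha⟩
    have h3 : x⁻¹ * (s : GL ι F) * x ∈ m.hat A :=
      m.mem_hat.2 ⟨S.mul_mem (S.mul_mem (S.inv_mem hxS) s.2) hxS, h1⟩
    have h4 := hc _ h2 h3
    rw [← map_mul, ← map_mul]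
    congr 1
    exact Subtype.ext h4

end Cfsg.Agent.H463.EP
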