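import Cfsg.Agent.H96.C5.Crit

/-!
# The action on a rational plane (helper463, S3499, class 5)

`rho h : GL₂(F) →* GL ι F`, `a ↦ 1 + U (a - 1) V` for `V U = 1`: `a` on the plane spanned by the columns of `U`, `1` on the
kernel of `V`.  `map_rho` : it commutes with `φ` if the entries of `U` and `V` are fixed by `φ`.  `dg l`, `w2` : the torus
element and the element inverting it.  `kill_plane` : if a subfield group contains a point stabiliser of an extremely
primitive group, the torus and the reflection of a rational plane cannot lie in the group.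
-/

set_option autoImplicit false
set_option linter.unusedSectionVars false

namespace Cfsg.Agent.H463.EP

open Matrix Subgroup Cfsg.Geo Cfsg.Agent.H284 Cfsg.Agent.H419.EP Cfsg.Agent.H96.C5
open scoped MatrixGroups

variable {ι : Type} [Fintype ι] [DecidableEq ι] {F : Type*} [Field F]

/-- the action on the plane -/
def pm (U : Matrix ι (Fin 2) F) (V : Matrix (Fin 2) ι F) (A : Matrix (Fin 2) (Fin 2) F) : Matrix ι ι F :=
  1 + U * (A - 1) * V

variable {U : Matrix ι (Fin 2) F} {V : Matrix (Fin 2) ι F}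

theorem pm_one : pm U V 1 = 1 := by
  rw [pm, sub_self, Matrix.mul_zero, Matrix.zero_mul, add_zero]

theorem pm_mul (h : V * U = 1) (A B : Matrix (Fin 2) (Fin 2) F) : pm U V (A * B) = pm U V A * pm U V B := by
  have h1 : U * (A - 1) * V * (U * (B - 1) * V) = U * ((A - 1) * (B - 1)) * V := by
    calc U * (A - 1) * V * (U * (B - 1) * V) = U * (A - 1) * (V * U) * (B - 1) * V := by
          simp only [Matrix.mul_assoc]
      _ = _ := by rw [h, Matrix.mul_one]; simp only [Matrix.mul_assoc]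
  have h2 : A * B - 1 = (A - 1) + (B - 1) + (A - 1) * (B - 1) := by noncomm_ring
  unfold pm
  rw [Matrix.add_mul, Matrix.mul_add (U * (A - 1) * V), h1, h2]
  simp only [Matrix.mul_add, Matrix.add_mul, Matrix.one_mul, Matrix.mul_one]
  abel

/-- the homomorphism of matrix monoids -/
def pmHom (h : V * U = 1) : Matrix (Fin 2) (Fin 2) F →* Matrix ι ι F where
  toFun := pm U V
  map_one' := pm_one
  map_mul' := pm_mul h

/-- the homomorphism of groups -/
def rho (h : V * U = 1) : GL (Fin 2) F →* GL ι F := Units.map (pmHom h)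

theorem rho_val (h : V * U = 1) (a : GL (Fin 2) F) : ((rho h a : GL ι F) : Matrix ι ι F) = pm U V a := rfl

theorem map_rho (h : V * U = 1) {φ : F →+* F} (hU : U.map φ = U) (hV : V.map φ = V) (a : GL (Fin 2) F) :
    Matrix.GeneralLinearGroup.map φ (rho h a) = rho h (Matrix.GeneralLinearGroup.map φ a) := by
  apply Units.ext
  change (pm U V (a : Matrix (Fin 2) (Fin 2) F)).map φ = pm U V ((a : Matrix (Fin 2) (Fin 2) F).map φ)
  unfold pm
  rw [Matrix.map_add _ (map_add φ), Matrix.map_mul, Matrix.map_mul, hU, hV, Matrix.map_one _ (map_zero φ) (map_one φ),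
    Matrix.map_sub _ (map_sub φ), Matrix.map_one _ (map_zero φ) (map_one φ)]

theorem Phi_conj {φ : F →+* F} (P g : GL ι F) :
    Phi φ P (P * g * P⁻¹) = P * Matrix.GeneralLinearGroup.map φ g * P⁻¹ := by
  rw [Phi_apply]
  congr 2
  congr 1
  group

/-- the torus element -/
def dg (l : Fˣ) : GL (Fin 2) F :=
  ⟨!![(l : F), 0; 0, ((l⁻¹ : Fˣ) : F)], !![((l⁻¹ : Fˣ) : F), 0; 0, (l : F)],
    by ext i j; fin_cases i <;> fin_cases j <;> simp [Matrix.mul_apply, Fin.sum_univ_two],
    by ext i j; fin_cases i <;> fin_cases j <;> simp [Matrix.mul_apply, Fin.sum_univ_two]⟩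

/-- the element inverting it -/
def w2 (F : Type*) [Field F] : GL (Fin 2) F :=
  ⟨!![0, -1; 1, 0], !![0, 1; -1, 0],
    by ext i j; fin_cases i <;> fin_cases j <;> simp [Matrix.mul_apply, Fin.sum_univ_two],
    by ext i j; fin_cases i <;> fin_cases j <;> simp [Matrix.mul_apply, Fin.sum_univ_two]⟩

theorem w2_dg (l : Fˣ) : w2 F * dg l * (w2 F)⁻¹ = (dg l)⁻¹ := by
  apply Units.ext
  change (!![0, -1; 1, 0] : Matrix (Fin 2) (Fin 2) F) * !![(l : F), 0; 0, ((l⁻¹ : Fˣ) : F)] * !![0, 1; -1, 0] =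
    !![((l⁻¹ : Fˣ) : F), 0; 0, (l : F)]
  ext i j
  fin_cases i <;> fin_cases j <;> simp [Matrix.mul_apply, Fin.sum_univ_two]

theorem dg_mul (l m : Fˣ) : dg l * dg m = dg (l * m) := by
  apply Units.ext
  change (!![(l : F), 0; 0, ((l⁻¹ : Fˣ) : F)] : Matrix (Fin 2) (Fin 2) F) * !![(m : F), 0; 0, ((m⁻¹ : Fˣ) : F)] =
    !![((l * m : Fˣ) : F), 0; 0, (((l * m)⁻¹ : Fˣ) : F)]
  ext i j
  fin_cases i <;> fin_cases j <;> simp [Matrix.mul_apply, Fin.sum_univ_two, mul_comm]

theorem map_dg (φ : F →+* F) (l : Fˣ) :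
    Matrix.GeneralLinearGroup.map φ (dg l) = dg (Units.map φ.toMonoidHom l) := by
  apply Units.ext
  change (!![(l : F), 0; 0, ((l⁻¹ : Fˣ) : F)] : Matrix (Fin 2) (Fin 2) F).map φ =
    !![φ (l : F), 0; 0, (((Units.map φ.toMonoidHom l)⁻¹ : Fˣ) : F)]
  rw [← map_inv]
  ext i j
  fin_cases i <;> fin_cases j <;> simp [Matrix.map_apply]

theorem map_w2 (φ : F →+* F) : Matrix.GeneralLinearGroup.map φ (w2 F) = w2 F := by
  apply Units.ext
  change (!![0, -1; 1, 0] : Matrix (Fin 2) (Fin 2) F).map φ = !![0, -1; 1, 0]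
  ext i j
  fin_cases i <;> fin_cases j <;> simp [Matrix.map_apply]

/-- the plane is not the whole space -/
theorem ne_one_of_card (hι : 2 < Fintype.card ι) : (1 : Matrix ι ι F) ≠ U * V := by
  intro h
  have h1 := Matrix.rank_mul_le_left U V
  have h2 := Matrix.rank_le_card_width U
  rw [Fintype.card_fin] at h2
  rw [← h, Matrix.rank_one] at h1
  omega

/-- `rho` is injective modulo scalars -/
theorem rho_scalar (h : V * U = 1) (hι : 2 < Fintype.card ι) {a b : GL (Fin 2) F} {z : GL ι F}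
    (hz : z ∈ scalars ι F) (hab : rho h a = rho h b * z) : a = b := by
  obtain ⟨d, hd⟩ := (mem_scalars_iff z).1 hz
  have h1 : pm U V (a : Matrix (Fin 2) (Fin 2) F) = (d : F) • pm U V (b : Matrix (Fin 2) (Fin 2) F) := by
    have h2 := congrArg (fun g : GL ι F => (g : Matrix ι ι F)) hab
    simp only [Units.val_mul, rho_val, hd, Matrix.mul_smul, Matrix.mul_one] at h2
    exact h2
  have hT : ∀ c : Matrix (Fin 2) (Fin 2) F, pm U V c * (1 - U * V) = 1 - U * V := by
    intro c
    unfold pm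
    rw [Matrix.add_mul, Matrix.one_mul, Matrix.mul_sub, Matrix.mul_one]
    have e : U * (c - 1) * V * (U * V) = U * (c - 1) * (V * U) * V := by simp only [Matrix.mul_assoc]
    rw [e, h, Matrix.mul_one, sub_self, add_zero]
  have hT0 : (1 : Matrix ι ι F) - U * V ≠ 0 := sub_ne_zero.2 (ne_one_of_card hι)
  have hd1 : (d : F) = 1 := by
    have h2 := congrArg (· * ((1 : Matrix ι ι F) - U * V)) h1
    simp only [Matrix.smul_mul, hT] at h2
    by_contra hne
    apply hT0
    have h3 : ((d : F) - 1) • ((1 : Matrix ι ι F) - U * V) = 0 := by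
      rw [sub_smul, one_smul, ← h2, sub_self]
    exact (smul_eq_zero.1 h3).resolve_left (sub_ne_zero.2 hne)
  rw [hd1, one_smul] at h1
  have hV : ∀ c : Matrix (Fin 2) (Fin 2) F, V * pm U V c * U = c := by
    intro c
    unfold pm
    have e : V * (1 + U * (c - 1) * V) * U = V * U + (V * U) * (c - 1) * (V * U) := by
      simp only [Matrix.mul_add, Matrix.add_mul, Matrix.mul_assoc, Matrix.mul_one]
    rw [e, h, Matrix.one_mul, Matrix.mul_one]
    abel
  apply Units.ext
  have h2 := congrArg (fun M => V * M * U) h1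
  simp only [hV] at h2
  exact h2

/-- a field element whose square is not in the subfield -/
theorem exists_sq [Finite F] (F₁ : Subfield F) {r : ℕ} (hr : r.Prime) (hc : Nat.card F = Nat.card F₁ ^ r) :
    ∃ l : Fˣ, ((l : F) * (l : F)) ∉ F₁ := by
  obtain ⟨l, hl⟩ := IsCyclic.exists_generator (α := Fˣ)
  refine ⟨l, fun h => ?_⟩
  have ho : orderOf l = Nat.card Fˣ := orderOf_eq_card_of_forall_mem_zpowers hl
  have hc1 : Nat.card Fˣ = Nat.card F - 1 := Nat.card_units F
  have h2 : 2 ≤ Nat.card F₁ := Finite.one_lt_card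
  rw [Cfsg.Agent.H914.mem_subfield_iff_pow] at h
  have h3 : (l ^ (2 * Nat.card F₁) : Fˣ) = l ^ 2 := by
    apply Units.ext
    rw [Units.val_pow_eq_pow_val, Units.val_pow_eq_pow_val, pow_mul, pow_two]
    exact h
  have h4 : l ^ (2 * Nat.card F₁ - 2) = 1 := by
    rw [pow_sub _ (by omega), h3, mul_inv_cancel]
  have h5 : Nat.card F - 1 ∣ 2 * Nat.card F₁ - 2 := by
    rw [← hc1, ← ho]
    exact orderOf_dvd_of_pow_eq_one h4
  have h6 : Nat.card F - 1 ≤ 2 * Nat.card F₁ - 2 := Nat.le_of_dvd (by omega) h5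
  have h7 : Nat.card F₁ ^ 2 ≤ Nat.card F := by
    rw [hc]
    exact Nat.pow_le_pow_right (by omega) hr.two_le
  have h8 : 2 * Nat.card F₁ ≤ Nat.card F₁ ^ 2 := by
    rw [pow_two]
    exact Nat.mul_le_mul_right _ h2
  omega

/-- **The subfield groups.** -/
theorem kill_plane {Q : Type*} [Group Q] [Finite Q] {A : Subgroup Q} {Γ : Subgroup (MulAut Q)} (h : EPT A Γ)
    [Finite F] {S : Subgroup (GL ι F)} (m : Model Q S) {F₁ : Subfield F} {P : GL ι F}
    (hA : m.hat A ≤ subfieldSubgroup F₁ P) {r : ℕ} (hr : r.Prime) (hcard : Nat.card F = Nat.card F₁ ^ r)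
    (hι : 2 < Fintype.card ι) (hUV : V * U = 1) (hU : ∀ i j, U i j ∈ F₁) (hV : ∀ i j, V i j ∈ F₁)
    (hS : ∀ a : GL (Fin 2) F, (a : Matrix (Fin 2) (Fin 2) F).det = 1 → P * rho hUV a * P⁻¹ ∈ S) : False := by
  obtain ⟨φ, hφ⟩ := exists_phi F₁
  obtain ⟨l, hl⟩ := exists_sq F₁ hr hcard
  have hUφ : U.map φ = U := by
    ext i j
    exact (hφ _).1 (hU i j)
  have hVφ : V.map φ = V := by
    ext i j
    exact (hφ _).1 (hV i j)
  have hP : ∀ a : GL (Fin 2) F, Phi φ P (P * rho hUV a * P⁻¹) =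
      P * rho hUV (Matrix.GeneralLinearGroup.map φ a) * P⁻¹ := fun a => by
    rw [Phi_conj, map_rho hUV hUφ hVφ]
  have hmul : ∀ a b : GL (Fin 2) F, P * rho hUV a * P⁻¹ * (P * rho hUV b * P⁻¹) = P * rho hUV (a * b) * P⁻¹ := by
    intro a b
    rw [map_mul]
    group
  refine kill_subfield h m hφ hA (x := P * rho hUV (dg l) * P⁻¹) (g := P * rho hUV (w2 F) * P⁻¹) (hS _ ?_) (hS _ ?_)
    ?_ ?_ ?_ ?_
  · change (!![(l : F), 0; 0, ((l⁻¹ : Fˣ) : F)] : Matrix (Fin 2) (Fin 2) F).det = 1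
    rw [Matrix.det_fin_two_of]
    simp
  · change (!![0, -1; 1, 0] : Matrix (Fin 2) (Fin 2) F).det = 1
    rw [Matrix.det_fin_two_of]
    simp
  · rw [mem_iff hφ]
    refine ⟨1, (scalars ι F).one_mem, ?_⟩
    rw [hP, map_w2, mul_one]
  · have e : (P * rho hUV (w2 F) * P⁻¹)⁻¹ = P * rho hUV (w2 F)⁻¹ * P⁻¹ := by
      rw [map_inv]
      group
    rw [e, hmul, hmul, w2_dg, map_inv]
    group
  · rw [hP, hmul, hmul, map_dg, dg_mul, dg_mul, mul_comm l]
  · rw [hmul, dg_mul, mem_iff hφ]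
    rintro ⟨z, hz, h1⟩
    rw [hP, map_dg] at h1
    have hzP : z * P = P * z := by
      obtain ⟨d, hd⟩ := (mem_scalars_iff z).1 hz
      apply Units.ext
      rw [Units.val_mul, Units.val_mul, hd]
      simp
    have h2 : rho hUV (dg (Units.map φ.toMonoidHom (l * l))) = rho hUV (dg (l * l)) * z := by
      have h3 : rho hUV (dg (Units.map φ.toMonoidHom (l * l))) =
          P⁻¹ * (P * rho hUV (dg (Units.map φ.toMonoidHom (l * l))) * P⁻¹) * P := by group
      rw [h3, h1]
      calc P⁻¹ * (P * rho hUV (dg (l * l)) * P⁻¹ * z) * P = rho hUV (dg (l * l)) * P⁻¹ * (z * P) := by group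
        _ = _ := by rw [hzP]; group
    have h3 := rho_scalar hUV hι hz h2
    apply hl
    rw [hφ]
    have h4 := congrArg (fun g : GL (Fin 2) F => (g : Matrix (Fin 2) (Fin 2) F) 0 0) h3
    have h5 : φ ((l : F) * (l : F)) = (l : F) * (l : F) := h4
    exact h5

end Cfsg.Agent.H463.EP
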